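import Groth.Agent.CurveDualLib.GenusField
import Groth.Agent.EllLawLib.Point
import Groth.Agent.FFLib.ZetaExt
import Groth.Agent.AVAmpleLib.FixedPts
import Groth.Prelude.Def_W4c1zetahwZeta

/-!
# Points of a curve over a finite field and places of its function field
-/

set_option autoImplicit false
set_option linter.style.haveILetI false
set_option linter.unusedSectionVars false
universe u

open CategoryTheory CategoryTheory.Limits AlgebraicGeometry TopologicalSpace Opposite
open IsLocalRing

noncomputable section

namespace ZetaCurveLib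

open CurveDualLib

variable {k : Type u} [Field k] {X : Scheme.{u}} [X.Over (Spec (CommRingCat.of k))] [IsIntegral X]
  [IsProper (X ↘ Spec (CommRingCat.of k))] [Smooth (X ↘ Spec (CommRingCat.of k))]
  (hdim : topologicalKrullDim X = 1)

attribute [local instance] algFF

/-- Closed points are places. -/
def placeEquiv : {x : X // IsClosed ({x} : Set X)} ≃ FunFld.Place k X.functionField :=
  Equiv.ofBijective (fun x => ptPlace (k := k) hdim x.2)
    ⟨fun x y h => Subtype.ext (ptPlace_injective (k := k) hdim x.2 y.2 h),
      fun P => (exists_point (k := k) hdim P).elim fun x ⟨hx, h⟩ => ⟨⟨x, hx⟩, h⟩⟩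

/-- The residue degree of a closed point is the degree of its place. -/
theorem finrank_residueField {x : X} (hx : IsClosed ({x} : Set X)) :
    letI : Algebra k (X.residueField x) := Curv2.resAlgebra k X x
    Module.finrank k (X.residueField x) = (ptPlace (k := k) hdim hx).deg := by
  letI : Algebra k (X.presheaf.stalk x) := Curv2.stalkAlgebra k X x
  letI := Curv2.resAlgebra k X x
  haveI := HurwitzLib.finite_residueField (k := k) hx
  have h := resDeg_toNat (k := k) hdim hx
  have e : X.residueField x ≃ₗ[k] (X.presheaf.stalk x ⧸ maximalIdeal (X.presheaf.stalk x)) :=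
    { (RingEquiv.refl (X.residueField x)).toAddEquiv with map_smul' := fun _ _ => rfl }
  rw [DetDegLib.resDeg, ← e.length_eq, Module.length_eq_finrank] at h
  exact_mod_cast h

theorem specMap_resMap (x : X) :
    Spec.map (CommRingCat.ofHom (Curv2.resMap k X x)) =
      X.fromSpecResidueField x ≫ (X ↘ Spec (CommRingCat.of k)) := by
  have hc : CommRingCat.ofHom (Curv2.resMap k X x) =
      (Scheme.ΓSpecIso (CommRingCat.of k)).inv ≫ (X ↘ Spec (CommRingCat.of k)).appTop ≫
        X.presheaf.germ ⊤ x trivial ≫ X.residue x := rfl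
  rw [hc, Spec.map_comp, Spec.map_comp, Spec.map_comp]
  show _ = (Spec.map (X.residue x) ≫ X.fromSpecStalk x) ≫ (X ↘ Spec (CommRingCat.of k))
  simp only [Category.assoc]
  congr 1
  rw [← Scheme.fromSpecStalk_toSpecΓ_assoc, ← Scheme.toSpecΓ_naturality_assoc]
  simp [toSpecΓ_SpecMap_ΓSpecIso_inv]

/-- Points with values in a field extension. -/
def pointsEquiv (k' : Type u) [Field k'] [Algebra k k'] :
    { g : Spec (CommRingCat.of k') ⟶ X //
      g ≫ (X ↘ Spec (CommRingCat.of k)) = Spec.map (CommRingCat.ofHom (algebraMap k k')) } ≃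
    Σ x : X, @AlgHom k (X.residueField x) k' _ _ _ (Curv2.resAlgebra k X x) _ :=
  ((Scheme.SpecToEquivOfField k' X).subtypeEquiv
    (q := fun p => CommRingCat.ofHom (Curv2.resMap k X p.1) ≫ p.2 = CommRingCat.ofHom (algebraMap k k')) fun g => by
      obtain ⟨⟨x, φ⟩, rfl⟩ := (Scheme.SpecToEquivOfField k' X).symm.surjective g
      rw [Equiv.apply_symm_apply]
      show (Spec.map φ ≫ X.fromSpecResidueField x) ≫ (X ↘ Spec (CommRingCat.of k)) = _ ↔ _
      rw [Category.assoc, ← specMap_resMap, ← Spec.map_comp, Spec.map_inj]).trans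
    { toFun := fun p => ⟨p.1.1,
        letI := Curv2.resAlgebra k X p.1.1
        { p.1.2.hom with commutes' := fun c => ConcreteCategory.congr_hom p.2 c }⟩
      invFun := fun q => ⟨⟨q.1, CommRingCat.ofHom (@AlgHom.toRingHom k (X.residueField q.1) k' _ _ _ (Curv2.resAlgebra k X q.1) _ q.2)⟩,
        CommRingCat.hom_ext (RingHom.ext fun c =>
          @AlgHom.commutes k (X.residueField q.1) k' _ _ _ (Curv2.resAlgebra k X q.1) _ q.2 c)⟩
      left_inv := fun p => rfl
      right_inv := fun q => rfl }

include hdim in
theorem isClosed_of_algHom (hK : FunFld.IsFunctionField k X.functionField) {k' : Type u} [Field k']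
    [Algebra k k'] [Finite k'] {x : X} (φ : @AlgHom k (X.residueField x) k' _ _ _ (Curv2.resAlgebra k X x) _) :
    IsClosed ({x} : Set X) := by
  by_contra hx
  have hxg : x = genericPoint X := by
    by_contra hne
    exact hx (isClosed_of_ne_generic (k := k) hdim hne)
  subst hxg
  letI := Curv2.resAlgebra k X (genericPoint X)
  obtain ⟨⟨t, ht, -⟩, -⟩ := hK
  haveI : Finite X.functionField := by
    have hinj : Function.Injective (X.residue (genericPoint X)) :=
      RingHom.injective (show X.functionField →+* X.residueField (genericPoint X) from (X.residue (genericPoint X)).hom)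
    exact Finite.of_injective (fun a : X.functionField => φ (X.residue (genericPoint X) a))
      ((RingHom.injective φ.toRingHom).comp hinj)
  haveI : Module.Finite k X.functionField := Module.Finite.of_finite
  exact ht (Algebra.IsAlgebraic.isAlgebraic t)

include hdim in
/-- Points over the extension of degree `n`. -/
theorem pointCount_eq [Finite k] (hK : FunFld.IsFunctionField k X.functionField) (k' : Type u) [Field k']
    [Algebra k k'] [Finite k'] :
    (SgaExt.pointCount (X ↘ Spec (CommRingCat.of k)) k' : ℤ) =
      Groth.Agent.FFLib.pointCount hK (Module.finrank k k') := by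
  classical
  haveI : Module.Finite k k' := Module.Finite.of_finite
  have hn : 0 < Module.finrank k k' := Module.finrank_pos
  obtain ⟨s, hs⟩ : ∃ s, s = Groth.Agent.FFLib.placesDvd hK (Module.finrank k k') := ⟨_, rfl⟩
  let pt : ↥s → X := fun P => ((placeEquiv (k := k) hdim).symm P.1).1
  have hptc : ∀ P, IsClosed ({pt P} : Set X) := fun P => ((placeEquiv (k := k) hdim).symm P.1).2
  have hptP : ∀ P, ptPlace (k := k) hdim (hptc P) = P.1 := fun P => (placeEquiv (k := k) hdim).apply_symm_apply P.1
  have hptd : ∀ P, (letI := Curv2.resAlgebra k X (pt P); Module.finrank k (X.residueField (pt P))) = P.1.deg := fun P =>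
    (finrank_residueField hdim (hptc P)).trans (congrArg FunFld.Place.deg (hptP P))
  -- only those points carry embeddings
  have e : (Σ x : X, @AlgHom k (X.residueField x) k' _ _ _ (Curv2.resAlgebra k X x) _) ≃
      Σ P : ↥s, @AlgHom k (X.residueField (pt P)) k' _ _ _ (Curv2.resAlgebra k X (pt P)) _ := by
    refine (Equiv.ofBijective (fun p => (⟨pt p.1, p.2⟩ :
      Σ x : X, @AlgHom k (X.residueField x) k' _ _ _ (Curv2.resAlgebra k X x) _)) ⟨?_, ?_⟩).symm
    · rintro ⟨P, φ⟩ ⟨Q, ψ⟩ h
      have hPQ : P = Q := by
        have h1 : pt P = pt Q := congrArg Sigma.fst h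
        apply Subtype.ext
        exact (placeEquiv (k := k) hdim).symm.injective (Subtype.ext h1)
      subst hPQ
      exact congrArg _ (eq_of_heq (Sigma.mk.injEq .. ▸ h).2)
    · rintro ⟨x, φ⟩
      have hx := isClosed_of_algHom hdim hK φ
      letI := Curv2.resAlgebra k X x
      haveI := HurwitzLib.finite_residueField (k := k) hx
      have hdvd : (ptPlace (k := k) hdim hx).deg ∣ Module.finrank k k' := by
        rw [← finrank_residueField hdim hx]
        algebraize [φ.toRingHom]
        haveI : IsScalarTower k (X.residueField x) k' := IsScalarTower.of_algebraMap_eq fun c => (φ.commutes c).symm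
        rw [← Module.finrank_mul_finrank k (X.residueField x) k']
        exact dvd_mul_right _ _
      have hmem : ptPlace (k := k) hdim hx ∈ s := hs ▸ (Groth.Agent.FFLib.mem_placesDvd hK hn).2 hdvd
      have hpt : pt ⟨_, hmem⟩ = x := congrArg Subtype.val ((placeEquiv (k := k) hdim).symm_apply_apply ⟨x, hx⟩)
      have : ∀ (y : X) (h : y = x), ∃ ψ, (⟨y, ψ⟩ :
          Σ x : X, @AlgHom k (X.residueField x) k' _ _ _ (Curv2.resAlgebra k X x) _) = ⟨x, φ⟩ := by
        rintro y rfl
        exact ⟨φ, rfl⟩
      obtain ⟨ψ, hψ⟩ := this _ hpt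
      exact ⟨⟨⟨_, hmem⟩, ψ⟩, hψ⟩
  haveI : ∀ P : ↥s, Finite (@AlgHom k (X.residueField (pt P)) k' _ _ _ (Curv2.resAlgebra k X (pt P)) _) := fun P => by
    letI := Curv2.resAlgebra k X (pt P)
    haveI := HurwitzLib.finite_residueField (k := k) (hptc P)
    haveI : Finite (X.residueField (pt P)) := Module.finite_of_finite k
    exact Finite.of_injective _ DFunLike.coe_injective
  rw [SgaExt.pointCount, Nat.card_congr ((pointsEquiv k').trans e), Nat.card_sigma, Nat.cast_sum,
    Groth.Agent.FFLib.pointCount, ← hs, ← Finset.sum_coe_sort s]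
  refine Finset.sum_congr rfl fun P _ => ?_
  letI := Curv2.resAlgebra k X (pt P)
  haveI := HurwitzLib.finite_residueField (k := k) (hptc P)
  haveI : Finite (X.residueField (pt P)) := Module.finite_of_finite k
  obtain ⟨c, hc⟩ : P.1.deg ∣ Module.finrank k k' :=
    (Groth.Agent.FFLib.mem_placesDvd hK hn).1 (hs ▸ P.2)
  rw [AVAmpleLib.natCard_algHom_of_pow k' (X.residueField (pt P)) fun b => ?_, hptd P]
  rw [Module.natCard_eq_pow_finrank (K := k) (V := k'), hc, ← hptd P, pow_mul,
    ← Module.natCard_eq_pow_finrank (K := k) (V := X.residueField (pt P))]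
  letI := Fintype.ofFinite (X.residueField (pt P))
  rw [Nat.card_eq_fintype_card]
  exact FiniteField.pow_card_pow c b

end ZetaCurveLib

end
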