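import Groth.Agent.CurveDualLib.DualClosed
import Groth.Agent.ZetaCurveLib.Bridge
import Groth.Agent.CurveDualLib.GenusField
import Groth.Agent.FFLib.ZetaL
import Groth.Agent.S10976

/-!
# Invertible modules on a curve and divisor classes of its function field
-/

set_option autoImplicit false
set_option linter.style.haveILetI false
set_option linter.unusedSectionVars false
universe u

open CategoryTheory CategoryTheory.Limits AlgebraicGeometry TopologicalSpace Opposite
open DevissLib CurveDualLib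

noncomputable section

namespace ZetaCurveLib

theorem exists_div_of_mem_prinDivs {k K : Type*} [Field k] [Field K] [Algebra k K]
    (hK : FunFld.IsFunctionField k K) {D : FunFld.Divisor k K} (hD : D ∈ FunFld.prinDivs k K) :
    ∃ f : K, f ≠ 0 ∧ D = FunFld.div k f := by
  induction hD using AddSubgroup.closure_induction with
  | mem D hD =>
    obtain ⟨f, rfl⟩ := hD
    by_cases hf : f = 0
    · exact ⟨1, one_ne_zero, by ext P; simp [hf, Groth.Agent.FFLib.div_apply hK.1, FunFld.Place.ord]⟩
    · exact ⟨f, hf, rfl⟩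
  | zero => exact ⟨1, one_ne_zero, by ext P; simp [Groth.Agent.FFLib.div_apply hK.1, FunFld.Place.ord]⟩
  | add A B _ _ hA hB =>
    obtain ⟨a, ha, rfl⟩ := hA
    obtain ⟨b, hb, rfl⟩ := hB
    exact ⟨a * b, mul_ne_zero ha hb, (Groth.Agent.FFLib.div_mul hK.1 ha hb).symm⟩
  | neg A _ hA =>
    obtain ⟨a, ha, rfl⟩ := hA
    exact ⟨a⁻¹, inv_ne_zero ha, (Groth.Agent.FFLib.div_inv hK.1 a).symm⟩

variable {k : Type u} [Field k] {X : Scheme.{u}} [X.Over (Spec (CommRingCat.of k))] [IsIntegral X]
  [Smooth (X ↘ Spec (CommRingCat.of k))] [IsProper (X ↘ Spec (CommRingCat.of k))]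
  (hdim : topologicalKrullDim X = 1)
  (h0 : Module.finrank k (Coh.HH X (Coh.structureModule X) 0) = 1)

attribute [local instance] algFF

/-- `D` is the divisor of some rational section generating `L` at the generic point. -/
def HasDiv (L : X.Modules) (D : FunFld.Divisor k X.functionField) : Prop :=
  PicF.IsInvertible L ∧ ∃ σ : Gst L, IsGen L (genericPoint X) σ ∧ IsDiv hdim L σ D

include hdim in
theorem exists_hasDiv {L : X.Modules} (hL : PicF.IsInvertible L) : ∃ D, HasDiv (k := k) hdim L D := by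
  obtain ⟨σ, hσ⟩ := exists_gen hL (genericPoint X)
  obtain ⟨D, hD⟩ := exists_isDiv (k := k) hdim hL hσ
  exact ⟨D, hL, σ, hσ, hD⟩

include hdim h0 in
theorem HasDiv.deg {L : X.Modules} {D : FunFld.Divisor k X.functionField} (h : HasDiv hdim L D) :
    Curv2.deg k X L 1 = D.deg := by
  obtain ⟨hL, σ, hσ, hD⟩ := h
  exact deg_eq_deg' hdim hL h0 hσ hD

include hdim h0 in
theorem hK : FunFld.IsFunctionField k X.functionField := isFunctionField' hdim h0

include hdim h0 in
theorem HasDiv.unique {L : X.Modules} {D D' : FunFld.Divisor k X.functionField} (h : HasDiv hdim L D)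
    (h' : HasDiv hdim L D') : ∃ f : X.functionField, f ≠ 0 ∧ D' = D + FunFld.div k f := by
  obtain ⟨hL, σ, hσ, hD⟩ := h
  obtain ⟨-, τ, hτ, hD'⟩ := h'
  obtain ⟨c, hc, hcτ⟩ := exists_unit_smul hσ hτ
  refine ⟨(c : X.functionField), hc.ne_zero, Finsupp.ext fun P => ?_⟩
  obtain ⟨x, hx, rfl⟩ := exists_point (k := k) hdim P
  obtain ⟨b, hb, g, hg0, hg, hord⟩ := hD x hx
  have hτ' : τ = (((c : X.functionField) * g : X.functionField) : X.presheaf.stalk (genericPoint X)) • sp L x b := by
    rw [hcτ, hg, smul_smul]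
  rw [Finsupp.add_apply, Groth.Agent.FFLib.div_apply (hK hdim h0).1,
    ← IsDiv.spec hdim hL hD' hx hb (mul_ne_zero (a := (c : X.functionField)) hc.ne_zero hg0) hτ',
    Groth.Agent.FFLib.ord_mul _ (x := (c : X.functionField)) hc.ne_zero hg0, hord, add_comm]

include hdim h0 in
theorem HasDiv.add_div {L : X.Modules} {D : FunFld.Divisor k X.functionField} (h : HasDiv hdim L D)
    {f : X.functionField} (hf : f ≠ 0) : HasDiv hdim L (D + FunFld.div k f) := by
  obtain ⟨hL, σ, hσ, hD⟩ := h
  refine ⟨hL, (f : X.presheaf.stalk (genericPoint X)) • σ,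
    isGen_unit_smul hσ (Ne.isUnit (G₀ := X.functionField) hf), fun x hx => ?_⟩
  obtain ⟨b, hb, g, hg0, hg, hord⟩ := hD x hx
  refine ⟨b, hb, f * g, mul_ne_zero hf hg0, by rw [hg, smul_smul], ?_⟩
  rw [Groth.Agent.FFLib.ord_mul _ hf hg0, hord, Finsupp.add_apply,
    Groth.Agent.FFLib.div_apply (hK hdim h0).1, add_comm]

theorem HasDiv.of_iso {L M : X.Modules} (e : L ≅ M) (hM : PicF.IsInvertible M)
    {D : FunFld.Divisor k X.functionField} (h : HasDiv hdim L D) : HasDiv hdim M D := by
  obtain ⟨hL, σ, hσ, hD⟩ := h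
  exact ⟨hM, _, isGen_map e hσ, hD.map hdim e⟩

theorem HasDiv.tensor {L M : X.Modules} {D E : FunFld.Divisor k X.functionField} (h : HasDiv hdim L D)
    (h' : HasDiv hdim M E) : HasDiv hdim (CohB1.tensorMod L M) (D + E) := by
  obtain ⟨hL, σ, hσ, hD⟩ := h
  obtain ⟨hM, τ, hτ, hE⟩ := h'
  exact ⟨HilbPolyLib.isInvertible_tensor hL hM, _, isGen_stT hL hM hσ hτ, hD.stT hdim hL hM hE⟩

include hdim h0 in
/-- Linearly equivalent divisors come from isomorphic modules. -/
theorem HasDiv.nonempty_iso {L M : X.Modules} {D E : FunFld.Divisor k X.functionField} (h : HasDiv hdim L D)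
    (h' : HasDiv hdim M E) {f : X.functionField} (hf : f ≠ 0) (hfE : E = D + FunFld.div k f) :
    Nonempty (L ≅ M) := by
  haveI := CurvLib.isNoetherian k (X := X)
  have hL := h.1
  have hM := h'.1
  obtain ⟨eL⟩ := MiscFlat6.nonempty_dualIso hL
  let N := CohB1.tensorMod (MiscFlat6.dual L) M
  have hN : PicF.IsInvertible N := HilbPolyLib.isInvertible_tensor (MiscFlat6.dual_isInvertible hL) hM
  have e : CohB1.tensorMod L N ≅ M :=
    (HilbPolyLib.assocIso L (MiscFlat6.dual L) M).symm ≪≫ HilbPolyLib.congrLeft eL M ≪≫ HilbPolyLib.unitLeft M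
  obtain ⟨F, hF⟩ := exists_hasDiv (k := k) hdim hN
  obtain ⟨g, hg, hgE⟩ := ((h.tensor hdim hF).of_iso hdim e hM).unique hdim h0 h'
  have hFdiv : F = FunFld.div k (f * g⁻¹) := by
    rw [Groth.Agent.FFLib.div_mul (hK hdim h0).1 hf (inv_ne_zero hg), Groth.Agent.FFLib.div_inv (hK hdim h0).1]
    rw [hfE] at hgE
    ext P
    have := DFunLike.congr_fun hgE P
    simp only [Finsupp.add_apply, Finsupp.neg_apply] at this ⊢
    omega
  obtain ⟨-, ν, hν, hFν⟩ := hF
  haveI := Groth.Agent.S10976.result k X.functionField (hK hdim h0) F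
  have hpos : 0 < FunFld.ell F := Module.finrank_pos_iff_exists_ne_zero.2
    ⟨⟨(f * g⁻¹)⁻¹, fun P => by
      have hne : (f * g⁻¹)⁻¹ ≠ 0 := inv_ne_zero (mul_ne_zero hf (inv_ne_zero hg))
      rw [Groth.Agent.FFLib.v_eq P hne, hFdiv, Groth.Agent.FFLib.div_apply (hK hdim h0).1,
        Groth.Agent.FFLib.ord_inv, neg_neg]⟩,
      fun h => inv_ne_zero (mul_ne_zero hf (inv_ne_zero hg)) (congrArg Subtype.val h)⟩
  rw [← finrank_h0_eq_ell hdim hN hν hFν] at hpos
  haveI : Nontrivial (Coh.HH X N 0) := Module.nontrivial_of_finrank_pos (R := k) hpos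
  obtain ⟨s, hs⟩ := CurvLib.exists_hom_ne_zero (L := N) inferInstance
  have hdN : Curv2.deg k X N 1 = 0 := by
    rw [HasDiv.deg hdim h0 ⟨hN, ν, hν, hFν⟩, hFdiv,
      Groth.Agent.FFLib.deg_div (hK hdim h0).1]
  haveI : IsIso s := CurvLib.isIso_of_euler_le (k := k) CurvLib.isInvertible_structureModule hN hdim hs (by
    simp only [Curv2.deg] at hdN
    omega)
  exact ⟨(PicPnLib.unitRight L).symm ≪≫ HilbPolyLib.congrRight L (asIso s) ≪≫ e⟩

include hdim h0 in
/-- Every divisor is the divisor of an invertible module. -/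
theorem exists_module (D : FunFld.Divisor k X.functionField) : ∃ L : X.Modules, HasDiv hdim L D := by
  classical
  let G : AddSubgroup (FunFld.Divisor k X.functionField) :=
    { carrier := {D | ∃ L : X.Modules, HasDiv hdim L D}
      add_mem' := fun ⟨L, h⟩ ⟨M, h'⟩ => ⟨_, h.tensor hdim h'⟩
      zero_mem' := by
        obtain ⟨σ, hσ, hσd⟩ : ∃ σ : Gst (Coh.structureModule X), IsGen (Coh.structureModule X) (genericPoint X) σ ∧
            IsDiv (k := k) hdim (Coh.structureModule X) σ 0 := by
          have hgen : ∀ x : X, IsGen (Coh.structureModule X) x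
              (gm (Coh.structureModule X) x (show x ∈ (⊤ : X.Opens) from trivial) (1 : Γ(X, ⊤))) := fun x =>
            (AmpleLib.one_genOn (X := X) ⊤).genAt trivial
          refine ⟨_, hgen _, fun x hx => ⟨_, hgen x, 1, one_ne_zero, ?_, by simp [FunFld.Place.ord]⟩⟩
          rw [sp_gm]
          exact (one_smul _ _).symm
        exact ⟨_, CurvLib.isInvertible_structureModule, σ, hσ, hσd⟩
      neg_mem' := by
        rintro D ⟨L, h⟩
        have hd := MiscFlat6.dual_isInvertible h.1
        obtain ⟨E, hE⟩ := exists_hasDiv (k := k) hdim hd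
        obtain ⟨eL⟩ := MiscFlat6.nonempty_dualIso h.1
        obtain ⟨σ, hσ, hσd⟩ : ∃ σ : Gst (Coh.structureModule X), IsGen (Coh.structureModule X) (genericPoint X) σ ∧
            IsDiv (k := k) hdim (Coh.structureModule X) σ 0 := by
          have hgen : ∀ x : X, IsGen (Coh.structureModule X) x
              (gm (Coh.structureModule X) x (show x ∈ (⊤ : X.Opens) from trivial) (1 : Γ(X, ⊤))) := fun x =>
            (AmpleLib.one_genOn (X := X) ⊤).genAt trivial
          refine ⟨_, hgen _, fun x hx => ⟨_, hgen x, 1, one_ne_zero, ?_, by simp [FunFld.Place.ord]⟩⟩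
          rw [sp_gm]
          exact (one_smul _ _).symm
        obtain ⟨f, hf, hfE⟩ := ((h.tensor hdim hE).of_iso hdim eL
          CurvLib.isInvertible_structureModule).unique hdim h0 ⟨CurvLib.isInvertible_structureModule, σ, hσ, hσd⟩
        refine ⟨MiscFlat6.dual L, ?_⟩
        have := hE.add_div hdim h0 hf
        rwa [show E + FunFld.div k f = -D from eq_neg_of_add_eq_zero_right (by rw [← add_assoc]; exact hfE.symm)] at this }
  suffices D ∈ G from this
  induction D using Finsupp.induction with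
  | zero => exact G.zero_mem
  | single_add P n D _ _ hD =>
    refine G.add_mem ?_ hD
    obtain ⟨x, hx, rfl⟩ := exists_point (k := k) hdim P
    suffices Finsupp.single (ptPlace (k := k) hdim hx) (1 : ℤ) ∈ G by
      have h := G.zsmul_mem this n
      rwa [Finsupp.smul_single, smul_eq_mul, mul_one] at h
    haveI := HurwitzLib.dvr_stalk_closed (k := k) hdim hx
    letI := Curv2.resAlgebra k X x
    obtain ⟨L, hL, s, hd, -, hgs⟩ := GenusZeroLib.exists_point_bundle (k := k) hdim hx
    have hxη : genericPoint X ≠ x := fun h =>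
      GenusZeroLib.ne_genericPoint_of_isClosed hdim hx h.symm
    have hσ : IsGen L (genericPoint X) (gm L (genericPoint X) (show genericPoint X ∈ (⊤ : X.Opens) from trivial) s) :=
      (hgs _).2 hxη
    obtain ⟨D, hD⟩ := exists_isDiv (k := k) hdim hL hσ
    have hD' : ∀ P, P ≠ ptPlace (k := k) hdim hx → D P = 0 := by
      intro P hP
      obtain ⟨y, hy, rfl⟩ := exists_point (k := k) hdim P
      have hyx : y ≠ x := fun h => hP (by subst h; rfl)
      rw [← IsDiv.spec hdim hL hD hy (b := gm L y (show y ∈ (⊤ : X.Opens) from trivial) s) ((hgs _).2 hyx)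
        (one_ne_zero (α := X.functionField)) (by rw [sp_gm]; exact (one_smul _ _).symm)]
      simp [FunFld.Place.ord]
    have hDs : D = Finsupp.single (ptPlace (k := k) hdim hx) (D (ptPlace hdim hx)) := by
      ext P
      by_cases hP : P = ptPlace (k := k) hdim hx
      · subst hP; simp
      · rw [hD' P hP, Finsupp.single_eq_of_ne (fun h => hP h)]
    refine ⟨L, hL, _, hσ, ?_⟩
    have hdeg := deg_eq_deg' hdim hL h0 hσ hD
    rw [hd, hDs, FunFld.Divisor.deg, Finsupp.sum_single_index (by simp), finrank_residueField hdim hx] at hdeg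
    have hP0 : 0 < (ptPlace (k := k) hdim hx).deg := by
      rw [← finrank_residueField hdim hx]
      haveI := HurwitzLib.finite_residueField (k := k) hx
      exact Module.finrank_pos
    have h1 : D (ptPlace (k := k) hdim hx) = 1 := by
      have h2 : (D (ptPlace (k := k) hdim hx) - 1) * ((ptPlace (k := k) hdim hx).deg : ℤ) = 0 := by
        rw [sub_mul, one_mul]; omega
      rcases mul_eq_zero.1 h2 with h3 | h3 <;> omega
    rw [hDs, h1] at hD
    exact hD

/-- Classes of invertible modules of a given degree. -/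
abbrev PicDeg (k : Type u) [Field k] (X : Scheme.{u}) [X.Over (Spec (CommRingCat.of k))] (m : ℤ) :=
  {c : PicF.Cl X // ∃ L : X.Modules, PicF.cl L = c ∧ PicF.IsInvertible L ∧ Curv2.deg k X L 1 = m}

theorem nonempty_iso_of_cl_eq {L M : X.Modules} (h : PicF.cl L = PicF.cl M) : Nonempty (L ≅ M) := by
  have h' := Quot.eqvGen_exact h
  clear h
  induction h' with
  | rel _ _ h => exact h
  | refl _ => exact ⟨Iso.refl _⟩
  | symm _ _ _ ih => exact ⟨ih.some.symm⟩
  | trans _ _ _ _ _ ih ih' => exact ⟨ih.some ≪≫ ih'.some⟩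

include hdim h0 in
/-- Classes of degree `m` correspond to degree zero divisor classes, given a divisor of degree `m`. -/
theorem nonempty_picDeg_equiv {m : ℤ} (D₀ : FunFld.Divisor k X.functionField) (hD₀ : D₀.deg = m) :
    Nonempty (((FunFld.degHom k X.functionField).ker ⧸
      (FunFld.prinDivs k X.functionField).addSubgroupOf (FunFld.degHom k X.functionField).ker) ≃ PicDeg k X m) := by
  choose Lof hLof using exists_module (k := k) hdim h0
  have hdeg : ∀ E : (FunFld.degHom k X.functionField).ker, Curv2.deg k X (Lof (E.1 + D₀)) 1 = m := fun E => by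
    rw [(hLof _).deg hdim h0, Groth.Agent.FFLib.deg_add, hD₀,
      show (E.1).deg = 0 from E.2, zero_add]
  let Φ : (FunFld.degHom k X.functionField).ker → PicDeg k X m := fun E =>
    ⟨PicF.cl (Lof (E.1 + D₀)), _, rfl, (hLof _).1, hdeg E⟩
  have hrel : ∀ E E', Φ E = Φ E' ↔ -E + E' ∈
      (FunFld.prinDivs k X.functionField).addSubgroupOf (FunFld.degHom k X.functionField).ker := by
    intro E E'
    rw [AddSubgroup.mem_addSubgroupOf, AddSubgroup.coe_add, AddSubgroup.coe_neg]
    constructor
    · intro h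
      obtain ⟨e⟩ := nonempty_iso_of_cl_eq (congrArg Subtype.val h)
      obtain ⟨f, hf, hfE⟩ := ((hLof _).of_iso hdim e (hLof _).1).unique hdim h0 (hLof (E'.1 + D₀))
      rw [show -E.1 + E'.1 = FunFld.div k f by linear_combination (norm := abel) hfE]
      exact AddSubgroup.subset_closure ⟨f, rfl⟩
    · intro h
      obtain ⟨f, hf, hfE⟩ := exists_div_of_mem_prinDivs (hK hdim h0) h
      obtain ⟨e⟩ := (hLof (E.1 + D₀)).nonempty_iso hdim h0 (hLof (E'.1 + D₀)) hf (by
        rw [← hfE]; abel)
      exact Subtype.ext (Quot.sound ⟨e⟩)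
  refine ⟨Equiv.ofBijective (Quotient.lift Φ fun E E' h => (hrel E E').2 ?_) ⟨?_, ?_⟩⟩
  · exact QuotientAddGroup.leftRel_apply.1 h
  · rintro ⟨E⟩ ⟨E'⟩ h
    exact Quotient.sound (QuotientAddGroup.leftRel_apply.2 ((hrel E E').1 h))
  · rintro ⟨c, L, rfl, hL, hLd⟩
    obtain ⟨D, hD⟩ := exists_hasDiv (k := k) hdim hL
    refine ⟨Quotient.mk _ ⟨D - D₀, ?_⟩, ?_⟩
    · show (D - D₀).deg = 0
      rw [Groth.Agent.FFLib.deg_sub, hD₀, ← hD.deg hdim h0, hLd, sub_self]
    · refine Subtype.ext (Quot.sound ?_)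
      refine (hLof _).nonempty_iso hdim h0 hD one_ne_zero ?_
      ext P
      simp [Groth.Agent.FFLib.div_apply (hK hdim h0).1, FunFld.Place.ord]

end ZetaCurveLib

end
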