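import Groth.Agent.ZetaCurveLib.Bridge
import Groth.Agent.FibVALib.Curve
import Groth.Agent.WeilResLib.GeomConn
import Groth.Agent.S11036
import Groth.Agent.S11040
import Groth.Agent.S11041

/-!
# The Weil conjectures for a curve
-/

set_option autoImplicit false
set_option linter.style.haveILetI false
set_option linter.unusedSectionVars false
universe u

open CategoryTheory CategoryTheory.Limits AlgebraicGeometry TopologicalSpace Opposite

noncomputable section

namespace ZetaCurveLib

open CurveDualLib

variable {k : Type u} [Field k] {X : Scheme.{u}} [X.Over (Spec (CommRingCat.of k))] [IsIntegral X]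
  [IsProper (X ↘ Spec (CommRingCat.of k))] [Smooth (X ↘ Spec (CommRingCat.of k))]
  [GeometricallyIrreducible (X ↘ Spec (CommRingCat.of k))] (hdim : topologicalKrullDim X = 1)

attribute [local instance] algFF

include hdim in
theorem h0_eq_one : Module.finrank k (Coh.HH X (Coh.structureModule X) 0) = 1 := by
  haveI := Groth.Agent.WeilRes.geometricallyConnected_of_geometricallyIrreducible (X ↘ Spec (CommRingCat.of k))
  haveI := FibVALib.geometricallyIntegral_of_geometricallyConnected (X ↘ Spec (CommRingCat.of k))
  exact FibVALib.finrank_h0_structure k X hdim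

include hdim in
theorem functionField : FunFld.IsFunctionField k X.functionField ∧
    FunFld.genus k X.functionField = Curv2.genus k X :=
  ⟨isFunctionField' hdim (h0_eq_one (k := k) hdim), genus_eq' hdim (h0_eq_one (k := k) hdim)⟩

variable [Finite k]

include hdim in
/-- The point counts of a curve over the finite extensions. -/
theorem exists_weil_numbers :
    ∃ α : Fin (2 * Curv2.genus k X) → ℂ, (∀ i, IsIntegral ℤ (α i)) ∧ (∀ i, ‖α i‖ ^ 2 = Nat.card k) ∧
      (∀ i, α i * α (Fin.rev i) = Nat.card k) ∧
      ∀ (k' : Type u) [Field k'] [Algebra k k'] [Finite k'],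
        (SgaExt.pointCount (X ↘ Spec (CommRingCat.of k)) k' : ℂ) =
          (Nat.card k : ℂ) ^ Module.finrank k k' + 1 - ∑ i, α i ^ Module.finrank k k' := by
  obtain ⟨hK, hg⟩ := functionField (k := k) hdim
  obtain ⟨α, hint, hα, hrev⟩ := Groth.Agent.S11040.result k X.functionField hK
  obtain ⟨p, hp⟩ := Groth.Agent.S11036.result k X.functionField hK
  have hq : (Nat.card k : ℂ) ≠ 0 := Nat.cast_ne_zero.2 Nat.card_pos.ne'
  have hpα : p.map (Int.castRingHom ℂ) = ∏ i, (1 - Polynomial.C (α i) * Polynomial.X) := by
    apply Polynomial.coe_injective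
    rw [Polynomial.polynomial_map_coe, hp]
    exact hα
  have hnorm : ∀ i, ‖α i‖ ^ 2 = Nat.card k := by
    intro i
    have hne : α i ≠ 0 := fun h0 => hq (by rw [← hrev i, h0, zero_mul])
    have h := Groth.Agent.S11041.result k X.functionField hK p hp (α i)⁻¹ (by
      rw [hpα, Polynomial.IsRoot.def, Polynomial.eval_prod]
      exact Finset.prod_eq_zero (Finset.mem_univ i) (by simp [hne]))
    rw [norm_inv, inv_pow] at h
    rw [inv_mul_eq_one₀ (by positivity)] at h
    exact h
  rw [← hg]
  refine ⟨α, hint, hnorm, hrev, fun k' _ _ _ => ?_⟩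
  haveI : Module.Finite k k' := Module.Finite.of_finite
  have h := Groth.Agent.FFLib.pointCount_eq_sub_sum hK α hα (m := Module.finrank k k') Module.finrank_pos
  rw [← pointCount_eq hdim hK k', Int.cast_natCast] at h
  rw [h]
  ring

theorem genus_eq_of_natCard {g : ℕ} (hg : Nat.card (Coh.HH X (Coh.structureModule X) 1) = Nat.card k ^ g) :
    Curv2.genus k X = g := by
  haveI := CurvLib.isNoetherian k (X := X)
  haveI := CurvLib.finite_HH (k := k) (CurvLib.isCoh_of_isInvertible (CurvLib.isInvertible_structureModule (X := X))) 1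
  rw [Module.natCard_eq_pow_finrank (K := k)] at hg
  exact Nat.pow_right_injective Finite.one_lt_card hg

end ZetaCurveLib

end
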