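import Groth.Agent.ZetaCurveLib.Bridge
import Groth.Agent.WeilLib.Zeta
import Groth.Agent.WeilLib.Frob

/-!
# The zeta function of a curve is the zeta series of its function field
-/

set_option autoImplicit false
set_option linter.style.haveILetI false
set_option linter.unusedSectionVars false
universe u

open CategoryTheory CategoryTheory.Limits AlgebraicGeometry

noncomputable section

namespace ZetaCurveLib

open CurveDualLib Groth.Agent.FFLib

variable {k : Type u} [Field k] [Finite k] {X : Scheme.{u}} [X.Over (Spec (CommRingCat.of k))] [IsIntegral X]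
  [IsProper (X ↘ Spec (CommRingCat.of k))] [Smooth (X ↘ Spec (CommRingCat.of k))]
  (hdim : topologicalKrullDim X = 1)

attribute [local instance] algFF

include hdim in
/-- The residue degree of a closed point is the degree of its place. -/
theorem residueDegree_eq {x : X} (hx : IsClosed ({x} : Set X)) :
    EGA4loc.residueDegree (X ↘ Spec (CommRingCat.of k)) x = (ptPlace (k := k) hdim hx).deg := by
  rw [← finrank_residueField hdim hx, WeilLib.residueDegree_eq_finrank]
  have h : WeilLib.resMap (X ↘ Spec (CommRingCat.of k)) x = CommRingCat.ofHom (Curv2.resMap k X x) := by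
    rw [← Spec.map_inj, WeilLib.SpecMap_resMap, specMap_resMap]
  rw [h]

include hdim in
/-- The point counts agree. -/
theorem nPts_eq (hK : FunFld.IsFunctionField k X.functionField) {m : ℕ} (hm : 0 < m) :
    (Zeta.nPts (X ↘ Spec (CommRingCat.of k)) m : ℤ) = pointCount hK m := by
  classical
  rw [Groth.Agent.FFLib.pointCount, Zeta.nPts,
    ← Finset.sum_fiberwise_of_maps_to (t := m.divisors) (g := fun P : FunFld.Place k X.functionField => P.deg)
      (fun P hP => Nat.mem_divisors.2 ⟨(mem_placesDvd hK hm).1 hP, hm.ne'⟩), Nat.cast_sum]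
  refine Finset.sum_congr rfl fun e he => ?_
  have hcard : Zeta.degCount (X ↘ Spec (CommRingCat.of k)) e =
      ((placesDvd hK m).filter fun P => P.deg = e).card := by
    rw [Zeta.degCount, ← Nat.card_eq_finsetCard]
    refine Nat.card_congr ((Equiv.subtypeSubtypeEquivSubtypeInter (fun x : X => IsClosed ({x} : Set X))
      (fun x => EGA4loc.residueDegree (X ↘ Spec (CommRingCat.of k)) x = e)).symm.trans
      ((placeEquiv (k := k) hdim).subtypeEquiv fun x => ?_))
    rw [residueDegree_eq hdim x.2, Finset.mem_filter, mem_placesDvd hK hm]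
    exact ⟨fun h => ⟨(show (ptPlace (k := k) hdim x.2).deg ∣ m from h ▸ Nat.dvd_of_mem_divisors he), h⟩,
      fun h => h.2⟩
  rw [Finset.sum_congr rfl fun P hP => by rw [(Finset.mem_filter.1 hP).2], Finset.sum_const, hcard,
    nsmul_eq_mul, Nat.cast_mul, mul_comm]

include hdim in
/-- The zeta function is the zeta series. -/
theorem zetaFun_eq (hK : FunFld.IsFunctionField k X.functionField) :
    Zeta.zetaFun (X ↘ Spec (CommRingCat.of k)) =
      PowerSeries.map (Int.castRingHom ℚ) (FunFld.zetaZ k X.functionField) := by
  have h1 : SRec (PowerSeries.map (Int.castRingHom ℚ) (FunFld.zetaZ k X.functionField))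
      (fun m => (Zeta.nPts (X ↘ Spec (CommRingCat.of k)) m : ℚ)) :=
    ((zeta_srec hK).map (Int.castRingHom ℚ)).congr fun m hm => by
      rw [← nPts_eq hdim hK hm]; simp
  have h2 : SRec (Zeta.zetaFun (X ↘ Spec (CommRingCat.of k)))
      (fun m => (Zeta.nPts (X ↘ Spec (CommRingCat.of k)) m : ℚ)) := by
    rw [srec_iff, WeilLib.X_mul_derivative_zetaFun, mul_comm]
    congr 1
    ext n
    rcases n with _ | n
    · simp [tailSeries, Zeta.nPts]
    · simp [tailSeries]
  refine h2.unique h1 ?_
  rw [WeilLib.constantCoeff_zetaFun, ← PowerSeries.coeff_zero_eq_constantCoeff_apply, PowerSeries.coeff_map,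
    PowerSeries.coeff_zero_eq_constantCoeff_apply, constantCoeff_zeta hK, map_one]

end ZetaCurveLib

end
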