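import Groth.Agent.ZetaCurveLib.Bridge
import Groth.Agent.S11036
import Groth.Agent.S11040
import Groth.Agent.S11041

/-!
# Places of large prime degree
-/

set_option autoImplicit false
universe u

noncomputable section

namespace ZetaCurveLib

open Groth.Agent.FFLib Filter

variable {k : Type u} [Field k] [Finite k] {K : Type u} [Field K] [Algebra k K]

/-- A place of every large prime degree exists. -/
theorem exists_place_deg_prime (hK : FunFld.IsFunctionField k K) :
    ∃ N₀ : ℕ, ∀ ℓ : ℕ, ℓ.Prime → N₀ ≤ ℓ → ∃ P : FunFld.Place k K, P.deg = ℓ := by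
  classical
  obtain ⟨α, -, hα, hrev⟩ := Groth.Agent.S11040.result k K hK
  obtain ⟨p, hp⟩ := Groth.Agent.S11036.result k K hK
  have hq : (Nat.card k : ℂ) ≠ 0 := Nat.cast_ne_zero.2 Nat.card_pos.ne'
  have hpα : p.map (Int.castRingHom ℂ) = ∏ i, (1 - Polynomial.C (α i) * Polynomial.X) := by
    apply Polynomial.coe_injective
    rw [Polynomial.polynomial_map_coe, hp]
    exact hα
  set s : ℝ := Real.sqrt (Nat.card k) with hs
  have hnorm : ∀ i, ‖α i‖ = s := by
    intro i
    have hne : α i ≠ 0 := fun h0 => hq (by rw [← hrev i, h0, zero_mul])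
    have h := Groth.Agent.S11041.result k K hK p hp (α i)⁻¹ (by
      rw [hpα, Polynomial.IsRoot.def, Polynomial.eval_prod]
      exact Finset.prod_eq_zero (Finset.mem_univ i) (by simp [hne]))
    rw [norm_inv, inv_pow, inv_mul_eq_one₀ (by positivity)] at h
    rw [hs, ← h, Real.sqrt_sq (norm_nonneg _)]
  have hs1 : 1 < s := by
    rw [hs, ← Real.sqrt_one]
    exact Real.sqrt_lt_sqrt zero_le_one (by exact_mod_cast Finite.one_lt_card)
  set G : ℝ := 2 * (FunFld.genus k K : ℝ) with hG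
  obtain ⟨N₀, hN₀⟩ := pow_unbounded_of_one_lt (G + |(pointCount hK 1 : ℝ)| + 1) hs1
  refine ⟨N₀, fun ℓ hℓ hNℓ => ?_⟩
  by_contra hno
  push_neg at hno
  have hle : pointCount hK ℓ ≤ pointCount hK 1 := by
    rw [Groth.Agent.FFLib.pointCount, Groth.Agent.FFLib.pointCount]
    refine Finset.sum_le_sum_of_subset_of_nonneg (fun P hP => ?_) fun P _ _ => Int.natCast_nonneg _
    rw [mem_placesDvd hK hℓ.pos] at hP
    rw [mem_placesDvd hK one_pos]
    rcases (Nat.dvd_prime hℓ).1 hP with h | h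
    · rw [h]
    · exact absurd h (hno P)
  have hW := pointCount_eq_sub_sum hK α hα (m := ℓ) hℓ.pos
  have hsum : ‖∑ i, α i ^ ℓ‖ ≤ G * s ^ ℓ := by
    refine (norm_sum_le _ _).trans ?_
    simp [norm_pow, hnorm, hG]
  have hre : (pointCount hK ℓ : ℝ) = s ^ ℓ * s ^ ℓ + 1 - (∑ i, α i ^ ℓ).re := by
    have h2 := congrArg Complex.re hW
    rw [Complex.intCast_re] at h2
    rw [h2, ← mul_pow, hs, Real.mul_self_sqrt (Nat.cast_nonneg _)]
    rw [Complex.sub_re, show (1 + (Nat.card k : ℂ) ^ ℓ).re = (Nat.card k : ℝ) ^ ℓ + 1 by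
      rw [← Nat.cast_pow, Complex.add_re, Complex.natCast_re, Nat.cast_pow, Complex.one_re, add_comm]]
  have hbig : G + |(pointCount hK 1 : ℝ)| + 1 < s ^ ℓ :=
    hN₀.trans_le (pow_le_pow_right₀ hs1.le hNℓ)
  have h4 : (pointCount hK ℓ : ℝ) ≤ |(pointCount hK 1 : ℝ)| :=
    (Int.cast_le.2 hle).trans (le_abs_self _)
  have h5 : (∑ i, α i ^ ℓ).re ≤ G * s ^ ℓ := (Complex.re_le_norm _).trans hsum
  have hG0 : 0 ≤ G := by positivity
  nlinarith [abs_nonneg (pointCount hK 1 : ℝ), mul_le_mul_of_nonneg_left hbig.le (pow_nonneg (zero_le_one.trans hs1.le) ℓ)]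

end ZetaCurveLib

end
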